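import Cfsg.Agent.SolvablePSp.Kernel

/-!
# A solvable group with element orders `1, 2, 3, 4, 5, 6, 9, 12`
-/

set_option autoImplicit false
set_option linter.style.haveILetI false

namespace CfsgLib.SolvablePSp

open SemidirectProduct

/-- The homomorphism from `ZMod n` given by an element with trivial `n`-th power. -/
def zmodPowHom {M : Type*} [Monoid M] {n : ℕ} [NeZero n] (g : M) (hg : g ^ n = 1) :
    Multiplicative (ZMod n) →* M where
  toFun x := g ^ x.toAdd.val
  map_one' := by simp
  map_mul' x y := by
    rw [toAdd_mul, ZMod.val_add, ← pow_add]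
    exact (pow_eq_pow_mod _ hg).symm

/-- Multiplication by three on `ZMod 5`. -/
def triple : MulAut (Multiplicative (ZMod 5)) where
  toFun x := x ^ 3
  invFun x := x ^ 2
  left_inv := by unfold Function.LeftInverse; decide
  right_inv := by unfold Function.RightInverse Function.LeftInverse; decide
  map_mul' := by decide

theorem triple_pow : triple ^ 4 = 1 := MulEquiv.ext (by decide)

/-- The action defining the Frobenius group of order twenty. -/
def psi : Multiplicative (ZMod 4) →* MulAut (Multiplicative (ZMod 5)) := zmodPowHom triple triple_pow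

/-- The Frobenius group of order twenty. -/
abbrev Comp : Type := Multiplicative (ZMod 5) ⋊[psi] Multiplicative (ZMod 4)

instance : Fintype Comp := Fintype.ofEquiv _ SemidirectProduct.equivProd.symm

lemma exists_zeta : ∃ ζ : K, ζ ^ 5 = 1 ∧ ζ ≠ 1 := by
  haveI := Fintype.ofFinite K
  haveI : Fact (Nat.Prime 5) := ⟨Nat.prime_five⟩
  obtain ⟨u, hu⟩ := exists_prime_orderOf_dvd_card' (G := Kˣ) 5 (by rw [Nat.card_units, card_K]; norm_num)
  refine ⟨u, ?_, fun e => ?_⟩
  · rw [← Units.val_pow_eq_pow_val, ← hu, pow_orderOf_eq_one, Units.val_one]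
  · rw [Units.val_eq_one.1 e, orderOf_one] at hu
    norm_num at hu

/-- A fixed primitive fifth root of unity. -/
noncomputable def zeta : K := exists_zeta.choose

lemma zeta_pow : zeta ^ 5 = 1 := exists_zeta.choose_spec.1

lemma zeta_ne_one : zeta ≠ 1 := exists_zeta.choose_spec.2

/-- The automorphism of order five. -/
noncomputable def hAut : MulAut Ker := scaleAut zeta zeta_pow

lemma hAut_apply (x : Ker) : hAut x = scale zeta x := rfl

lemma hAut_pow_apply (n : ℕ) (x : Ker) : (hAut ^ n) x = scale (zeta ^ n) x := by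
  induction n with
  | zero => simp [scale_one]
  | succ n ih => rw [pow_succ', MulAut.mul_apply, ih, hAut_apply, scale_scale, ← pow_succ']

lemma hAut_pow_five : hAut ^ 5 = 1 :=
  MulEquiv.ext fun x => by rw [hAut_pow_apply, zeta_pow, scale_one]; rfl

lemma frobAut_pow_four : frobAut ^ 4 = 1 := MulEquiv.ext fun x => cubeCoord_four x

lemma frob_hAut : frobAut * hAut = hAut ^ 3 * frobAut := by
  refine MulEquiv.ext fun x => ?_
  rw [MulAut.mul_apply, MulAut.mul_apply, hAut_pow_apply]
  show cubeCoord (scale zeta x) = scale (zeta ^ 3) (cubeCoord x)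
  ext <;> simp only [cubeCoord, scale, mul_pow, ← pow_mul]

/-- The action of the Frobenius group of order twenty on the kernel. -/
noncomputable def phi : Comp →* MulAut Ker :=
  SemidirectProduct.lift (zmodPowHom hAut hAut_pow_five) (zmodPowHom frobAut frobAut_pow_four) (by
    have hkey : ∀ (v : ℕ) (n : Multiplicative (ZMod 5)),
        zmodPowHom hAut hAut_pow_five ((triple ^ v) n) =
          frobAut ^ v * zmodPowHom hAut hAut_pow_five n * (frobAut ^ v)⁻¹ := by
      intro v
      induction v with
      | zero => intro n; simp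
      | succ v ih =>
        intro n
        rw [pow_succ', MulAut.mul_apply, show triple ((triple ^ v) n) = ((triple ^ v) n) ^ 3 from rfl,
          map_pow, ih, pow_succ' frobAut v, mul_inv_rev]
        have h3 : ∀ m : ℕ, (hAut ^ m) ^ 3 = frobAut * hAut ^ m * frobAut⁻¹ := fun m => by
          rw [eq_mul_inv_iff_mul_eq, ← pow_mul, mul_comm m 3, pow_mul]
          exact ((show SemiconjBy frobAut hAut (hAut ^ 3) from frob_hAut).pow_right m).eq.symm
        rw [conj_pow, show (zmodPowHom hAut hAut_pow_five n) = hAut ^ n.toAdd.val from rfl, h3]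
        group
    intro g
    refine MonoidHom.ext fun n => ?_
    rw [MonoidHom.comp_apply, MonoidHom.comp_apply, MulEquiv.coe_toMonoidHom,
      MulEquiv.coe_toMonoidHom, MulAut.conj_apply]
    exact hkey g.toAdd.val n)

/-- The solvable model. -/
abbrev Model : Type := Ker ⋊[phi] Comp

instance : Finite Model := Finite.of_equiv _ SemidirectProduct.equivProd.symm

lemma isSolvable : Group.IsSolvable Model := by
  haveI : Fact (Nat.Prime 3) := ⟨Nat.prime_three⟩
  haveI : Group.IsNilpotent Ker := isPGroup.isNilpotent
  haveI : Group.IsSolvable Comp :=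
    Group.isSolvable_of_ker_le_range (SemidirectProduct.inl (φ := psi)) SemidirectProduct.rightHom
      (range_inl_eq_ker_rightHom (φ := psi)).ge
  exact Group.isSolvable_of_ker_le_range (SemidirectProduct.inl (φ := phi)) SemidirectProduct.rightHom
    (range_inl_eq_ker_rightHom (φ := phi)).ge

/-- The involution of the complement acting as `x ↦ x ^ 9`. -/
def compT : Comp := ⟨1, Multiplicative.ofAdd 2⟩

/-- The element of order four of the complement. -/
def compS : Comp := ⟨1, Multiplicative.ofAdd 1⟩

lemma phi_inl (n : Multiplicative (ZMod 5)) :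
    phi (SemidirectProduct.inl n) = hAut ^ n.toAdd.val :=
  SemidirectProduct.lift_inl _ _ _ n

lemma phi_compS : phi compS = frobAut := by
  rw [show compS = SemidirectProduct.inr (Multiplicative.ofAdd 1) from rfl, phi,
    SemidirectProduct.lift_inr]
  exact pow_one frobAut

lemma cube_eq_one_of_fixed {y : Ker} (h : phi compT y = y) : y ^ 3 = 1 := by
  rw [show compT = SemidirectProduct.inr (Multiplicative.ofAdd 2) from rfl, phi,
    SemidirectProduct.lift_inr] at h
  have h' : cubeCoord^[2] y = y := h
  rw [cubeCoord_iterate, Ker.ext_iff] at h'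
  norm_num at h'
  exact cube_eq_one (by rw [j_apply, h'.1]) (by rw [j_apply, h'.2.2.1])

/-- Elements over a complement element of order five are conjugate to it. -/
lemma pow_five_of_inl {x : Model} {n : Multiplicative (ZMod 5)} (hn : n ≠ 1)
    (hx : x.right = SemidirectProduct.inl n) : x ^ 5 = 1 := by
  have hu : (zeta ^ n.toAdd.val) ^ 5 = 1 := by rw [← pow_mul, mul_comm, pow_mul, zeta_pow, one_pow]
  have hu1 : zeta ^ n.toAdd.val ≠ 1 := by
    intro e
    have ho : orderOf zeta = 5 := orderOf_eq_prime (hp := ⟨Nat.prime_five⟩) zeta_pow zeta_ne_one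
    have h0 := Nat.eq_zero_of_dvd_of_lt (orderOf_dvd_of_pow_eq_one e)
      (by rw [ho]; exact ZMod.val_lt _)
    refine hn (Multiplicative.toAdd.injective ?_)
    rw [toAdd_one]
    exact (ZMod.val_eq_zero _).1 h0
  have hfix : ∀ z, phi x.right z = z → z = 1 := fun z hz => by
    rw [hx, phi_inl, hAut_pow_apply] at hz
    exact eq_one_of_scale hu hu1 hz
  have hbij : Function.Surjective fun z : Ker => z⁻¹ * phi x.right z := by
    refine (Finite.injective_iff_surjective).1 fun z z' e => ?_
    have e' : phi x.right (z' * z⁻¹) = z' * z⁻¹ := by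
      rw [map_mul, map_inv]
      have e1 : phi x.right z' = z' * (z⁻¹ * phi x.right z) := by
        rw [e]; group
      rw [e1]; group
    exact (mul_inv_eq_one.1 (hfix _ e')).symm
  obtain ⟨z, hz⟩ := hbij x.left
  have hconj : x = (SemidirectProduct.inl z)⁻¹ * SemidirectProduct.inr x.right *
      SemidirectProduct.inl z := by
    refine SemidirectProduct.ext ?_ ?_
    · simpa [SemidirectProduct.mul_left, SemidirectProduct.inv_left] using hz.symm
    · simp [SemidirectProduct.mul_right, SemidirectProduct.inv_right]
  have h5 : x.right ^ 5 = 1 := by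
    have hall : ∀ m : Multiplicative (ZMod 5), m ^ 5 = 1 := by decide
    rw [hx, ← map_pow, hall n, map_one]
  rw [hconj, show ((SemidirectProduct.inl z)⁻¹ * SemidirectProduct.inr x.right *
    SemidirectProduct.inl z : Model) = (SemidirectProduct.inl z)⁻¹ * SemidirectProduct.inr x.right *
    ((SemidirectProduct.inl z)⁻¹)⁻¹ by rw [inv_inv], conj_pow, ← map_pow, h5, map_one]
  simp

lemma pow_nine_of_one {x : Model} (hx : x.right = 1) : x ^ 9 = 1 := by
  rw [show x = SemidirectProduct.inl x.left from SemidirectProduct.ext rfl (by simp [hx]),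
    ← map_pow, pow_nine, map_one]

/-- Elements over the involution `compT` have order dividing six. -/
lemma pow_six_of_compT {x : Model} (hx : x.right = compT) : x ^ 6 = 1 := by
  have hTT : compT ^ 2 = 1 := by decide
  have h18 : x ^ 18 = 1 := by
    rw [show 18 = 2 * 9 by norm_num, pow_mul]
    refine pow_nine_of_one ?_
    rw [← SemidirectProduct.rightHom_eq_right, map_pow, SemidirectProduct.rightHom_eq_right, hx, hTT]
  set u := x ^ 9 with hu
  have huu : u * u = 1 := by rw [hu, ← pow_add]; exact h18
  have hur : u.right = compT := by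
    rw [hu, ← SemidirectProduct.rightHom_eq_right, map_pow, SemidirectProduct.rightHom_eq_right, hx,
      show 9 = 2 * 4 + 1 by norm_num, pow_succ, pow_mul, hTT, one_pow, one_mul]
  have hinv : phi compT u.left = u.left⁻¹ := by
    refine eq_inv_of_mul_eq_one_right ?_
    have := congrArg SemidirectProduct.left huu
    rwa [SemidirectProduct.mul_left, hur, SemidirectProduct.one_left] at this
  set z := u.left ^ 4
  have hconj : u = (SemidirectProduct.inl z)⁻¹ * SemidirectProduct.inr compT *
      SemidirectProduct.inl z := by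
    refine SemidirectProduct.ext ?_ ?_
    · have h9 : u.left * u.left ^ 8 = 1 := by rw [← pow_succ']; exact pow_nine _
      have hz : z⁻¹ * phi compT z = u.left := by
        rw [map_pow, hinv, inv_pow, ← mul_inv_rev, ← pow_add]
        exact (eq_inv_of_mul_eq_one_left h9).symm
      simpa [SemidirectProduct.mul_left, SemidirectProduct.inv_left] using hz.symm
    · simp [SemidirectProduct.mul_right, SemidirectProduct.inv_right, hur]
  set y := SemidirectProduct.inl z * x * (SemidirectProduct.inl z)⁻¹ with hy
  have hy9 : y ^ 9 = SemidirectProduct.inr compT := by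
    rw [hy, conj_pow, ← hu, hconj]; group
  have hyr : y.right = compT := by
    rw [hy]; simp [SemidirectProduct.mul_right, SemidirectProduct.inv_right, hx]
  have hfix : phi compT y.left = y.left := by
    have hc : SemidirectProduct.inr compT * y = y * SemidirectProduct.inr compT := by
      rw [← hy9]; exact ((Commute.refl y).pow_left 9).eq
    simpa [SemidirectProduct.mul_left] using congrArg SemidirectProduct.left hc
  have hcomm : Commute (SemidirectProduct.inl y.left : Model) (SemidirectProduct.inr compT) := by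
    refine SemidirectProduct.ext ?_ ?_ <;> simp [hfix]
  have hy6 : y ^ 6 = 1 := by
    rw [show y = SemidirectProduct.inl y.left * SemidirectProduct.inr compT from
      SemidirectProduct.ext (by simp) (by simp [hyr]), hcomm.mul_pow, ← map_pow, ← map_pow,
      show 6 = 3 * 2 by norm_num, pow_mul, cube_eq_one_of_fixed hfix, one_pow,
      show compT ^ (3 * 2) = 1 by decide, map_one, map_one, one_mul]
  rw [hy, conj_pow] at hy6
  exact conj_eq_one_iff.1 hy6

/-- Elements over any involution of the complement. -/
lemma pow_six_of_involution {x : Model} (h2 : x.right * x.right = 1) (h1 : x.right ≠ 1) :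
    x ^ 6 = 1 := by
  have hall : ∀ e : Comp, e * e = 1 → e ≠ 1 → ∃ d : Comp, d * e * d⁻¹ = compT := by decide +kernel
  obtain ⟨d, hd⟩ := hall _ h2 h1
  have h6 := pow_six_of_compT (x := SemidirectProduct.inr d * x * (SemidirectProduct.inr d)⁻¹)
    (by simp [SemidirectProduct.mul_right, SemidirectProduct.inv_right, hd])
  rw [conj_pow] at h6
  exact conj_eq_one_iff.1 h6

/-- Every order divides `5`, `9` or `12`. -/
lemma order_dvd (x : Model) : orderOf x ∣ 5 ∨ orderOf x ∣ 9 ∨ orderOf x ∣ 12 := by
  have hall : ∀ e : Comp, e = 1 ∨ (e.right = 1 ∧ e.left ≠ 1) ∨ (e * e = 1 ∧ e ≠ 1) ∨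
      ((e * e) * (e * e) = 1 ∧ e * e ≠ 1) := by decide +kernel
  simp only [orderOf_dvd_iff_pow_eq_one]
  rcases hall x.right with h | ⟨h, h'⟩ | ⟨h, h'⟩ | ⟨h, h'⟩
  · exact Or.inr (Or.inl (pow_nine_of_one h))
  · exact Or.inl (pow_five_of_inl h' (SemidirectProduct.ext rfl (by simp [h])))
  · refine Or.inr (Or.inr ?_)
    rw [show 12 = 6 * 2 by norm_num, pow_mul, pow_six_of_involution h h', one_pow]
  · refine Or.inr (Or.inr ?_)
    rw [show 12 = 2 * 6 by norm_num, pow_mul, pow_two]
    exact pow_six_of_involution (by simpa [SemidirectProduct.mul_right] using h)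
      (by simpa [SemidirectProduct.mul_right] using h')

lemma exists_five : ∃ x : Model, orderOf x = 5 := by
  refine ⟨SemidirectProduct.inr (SemidirectProduct.inl (Multiplicative.ofAdd 1)), ?_⟩
  rw [orderOf_injective _ SemidirectProduct.inr_injective, orderOf_injective _ SemidirectProduct.inl_injective]
  exact orderOf_eq_prime (hp := ⟨Nat.prime_five⟩) (by decide) (by decide)

lemma exists_nine : ∃ x : Model, orderOf x = 9 := by
  obtain ⟨a, ha⟩ : ∃ a : K, j a ≠ a := by
    by_contra hcon
    push Not at hcon
    have := hcon zeta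
    rw [j_apply, show 9 = 5 + 4 by norm_num, pow_add, zeta_pow, one_mul] at this
    have h3 : zeta ^ 3 = 1 := mul_right_cancel₀ (b := zeta) (by
      intro e; exact zero_ne_one (α := K) (by simpa [e] using zeta_pow))
      (by rw [← pow_succ, one_mul]; exact this)
    exact zeta_ne_one (orderOf_eq_one_iff.1 (Nat.dvd_one.1 (Nat.dvd_gcd
      (orderOf_dvd_of_pow_eq_one h3) (orderOf_dvd_of_pow_eq_one zeta_pow))))
  haveI : Fact (Nat.Prime 3) := ⟨Nat.prime_three⟩
  refine ⟨SemidirectProduct.inl ⟨a, 1, 1, 0, 0, 0, 0, 0⟩, ?_⟩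
  rw [orderOf_injective _ SemidirectProduct.inl_injective]
  refine orderOf_eq_prime_pow (p := 3) (n := 1) ?_ (pow_nine _)
  rw [pow_one, pow_three', cube_eq, one_def, Ker.ext_iff]
  simp only [map_one, mul_one]
  rintro ⟨-, -, -, -, -, -, -, h⟩
  exact ha (sub_eq_zero.1 h).symm

lemma exists_twelve : ∃ x : Model, orderOf x = 12 := by
  set y : Ker := ⟨1, 0, 0, 0, 0, 0, 0, 0⟩ with hy
  have hfix : phi compS y = y := by
    rw [phi_compS]; show cubeCoord y = y; ext <;> simp [cubeCoord, hy]
  have hcomm : Commute (SemidirectProduct.inl y : Model) (SemidirectProduct.inr compS) := by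
    refine SemidirectProduct.ext ?_ ?_ <;> simp [hfix]
  have hy3 : orderOf y = 3 := orderOf_eq_prime (hp := ⟨Nat.prime_three⟩)
    (cube_eq_one (by simp [hy]) (by simp [hy])) fun e => by
      have := congrArg Ker.a e
      simp [hy, one_def] at this
  have hs4 : orderOf compS = 4 :=
    orderOf_eq_prime_pow (p := 2) (n := 1) (hp := ⟨Nat.prime_two⟩) (by decide) (by decide)
  refine ⟨SemidirectProduct.inl y * SemidirectProduct.inr compS, ?_⟩
  rw [hcomm.orderOf_mul_eq_mul_orderOf_of_coprime]
  all_goals rw [orderOf_injective _ SemidirectProduct.inl_injective,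
    orderOf_injective _ SemidirectProduct.inr_injective, hy3, hs4]
  norm_num

/-- The element orders of the model. -/
theorem range_orderOf : Set.range (orderOf : Model → ℕ) =
    {m | 0 < m ∧ (m ∣ 5 ∨ m ∣ 9 ∨ m ∣ 12)} := by
  refine Set.Subset.antisymm ?_ ?_
  · rintro _ ⟨x, rfl⟩
    exact ⟨orderOf_pos x, order_dvd x⟩
  · rintro m ⟨hm, hd⟩
    obtain ⟨x, hx⟩ : ∃ x : Model, m ∣ orderOf x := by
      rcases hd with hd | hd | hd
      exacts [exists_five.elim fun x hx => ⟨x, hd.trans (dvd_of_eq hx.symm)⟩, exists_nine.elim fun x hx => ⟨x, hd.trans (dvd_of_eq hx.symm)⟩,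
        exists_twelve.elim fun x hx => ⟨x, hd.trans (dvd_of_eq hx.symm)⟩]
    exact ⟨x ^ (orderOf x / m), orderOf_pow_orderOf_div (orderOf_pos x).ne' hx⟩

end CfsgLib.SolvablePSp
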