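import Mathlib

/-!
# A `3`-group of exponent nine with fixed-point-free automorphisms of order five

The group consists of the block unipotent matrices with rows `(1, (a, j a), ·, ·)`,
`(diag (c, c), ·)` and `(b, -j b)` over a field of order `81`, where `j x = x ^ 9`.
-/

set_option autoImplicit false
set_option linter.style.haveILetI false

namespace CfsgLib.SolvablePSp

/-- The field of order `81`. -/
abbrev K : Type := GaloisField 3 4

lemma card_K : Nat.card K = 81 := by rw [GaloisField.card 3 4 (by norm_num)]; norm_num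

lemma three_eq_zero : (3 : K) = 0 := by exact_mod_cast CharP.cast_eq_zero K 3

lemma pow_81 (x : K) : x ^ 81 = x := by
  haveI := Fintype.ofFinite K
  have := FiniteField.pow_card x
  rwa [← Nat.card_eq_fintype_card, card_K] at this

/-- The field automorphism of order two. -/
noncomputable def j : K →+* K := iterateFrobenius K 3 2

lemma j_apply (x : K) : j x = x ^ 9 := by rw [j, iterateFrobenius_def]; norm_num

/-- Coordinates on the kernel. -/
@[ext]
structure Ker where
  a : K
  c : K
  b : K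
  p : K
  p' : K
  q : K
  q' : K
  w : K

noncomputable instance : Mul Ker :=
  ⟨fun x y => ⟨x.a + y.a, x.c + y.c, x.b + y.b, x.p + y.p + x.a * y.c, x.p' + y.p' + j x.a * y.c,
    x.q + y.q + x.c * y.b, x.q' + y.q' - x.c * j y.b,
    x.w + y.w + x.a * y.q + j x.a * y.q' + x.p * y.b - x.p' * j y.b⟩⟩

noncomputable instance : One Ker := ⟨⟨0, 0, 0, 0, 0, 0, 0, 0⟩⟩

noncomputable instance : Inv Ker :=
  ⟨fun x => ⟨-x.a, -x.c, -x.b, -x.p + x.a * x.c, -x.p' + j x.a * x.c, -x.q + x.c * x.b,
    -x.q' - x.c * j x.b,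
    -x.w + x.a * x.q + j x.a * x.q' - (-x.p + x.a * x.c) * x.b +
      (-x.p' + j x.a * x.c) * j x.b⟩⟩

lemma mul_def (x y : Ker) : x * y = ⟨x.a + y.a, x.c + y.c, x.b + y.b, x.p + y.p + x.a * y.c,
    x.p' + y.p' + j x.a * y.c, x.q + y.q + x.c * y.b, x.q' + y.q' - x.c * j y.b,
    x.w + y.w + x.a * y.q + j x.a * y.q' + x.p * y.b - x.p' * j y.b⟩ := rfl

lemma one_def : (1 : Ker) = ⟨0, 0, 0, 0, 0, 0, 0, 0⟩ := rfl

noncomputable instance : Group Ker :=
  Group.ofLeftAxioms (fun x y z => by ext <;> simp only [mul_def, map_add] <;> ring)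
    (fun x => by ext <;> simp [mul_def, one_def])
    (fun x => by
      ext <;> simp only [mul_def, one_def, show x⁻¹ = (⟨-x.a, -x.c, -x.b, -x.p + x.a * x.c,
        -x.p' + j x.a * x.c, -x.q + x.c * x.b, -x.q' - x.c * j x.b,
        -x.w + x.a * x.q + j x.a * x.q' - (-x.p + x.a * x.c) * x.b +
          (-x.p' + j x.a * x.c) * j x.b⟩ : Ker) from rfl, map_neg] <;> ring)

instance : Finite Ker :=
  Finite.of_injective (fun x => (x.a, x.c, x.b, x.p, x.p', x.q, x.q', x.w)) fun x y h => by
    simp only [Prod.mk.injEq] at h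
    ext <;> tauto

/-- Cubes lie in the last coordinate. -/
lemma cube_eq (x : Ker) :
    x * x * x = ⟨0, 0, 0, 0, 0, 0, 0, x.a * x.c * x.b - j x.a * x.c * j x.b⟩ := by
  have h3 := three_eq_zero
  ext <;> simp only [mul_def, map_add]
  · linear_combination x.a * h3
  · linear_combination x.c * h3
  · linear_combination x.b * h3
  · linear_combination (x.p + x.a * x.c) * h3
  · linear_combination (x.p' + j x.a * x.c) * h3
  · linear_combination (x.q + x.c * x.b) * h3
  · linear_combination (x.q' - x.c * j x.b) * h3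
  · linear_combination (x.w + x.a * x.q + j x.a * x.q' + x.p * x.b - x.p' * j x.b) * h3

lemma pow_nine (x : Ker) : x ^ 9 = 1 := by
  rw [show 9 = 3 * 3 by norm_num, pow_mul, pow_three', pow_three', cube_eq, cube_eq]
  simp [one_def]

lemma cube_eq_one {x : Ker} (ha : j x.a = x.a) (hb : j x.b = x.b) : x ^ 3 = 1 := by
  rw [pow_three', cube_eq, ha, hb, sub_self]
  rfl

lemma isPGroup : IsPGroup 3 Ker := fun x => ⟨2, by norm_num; exact pow_nine x⟩

/-- The weights of the coordinates. -/
noncomputable def scale (u : K) (x : Ker) : Ker :=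
  ⟨u * x.a, u ^ 2 * x.c, u ^ 4 * x.b, u ^ 3 * x.p, u * x.p', u * x.q, u ^ 3 * x.q', u ^ 2 * x.w⟩

lemma scale_mul {u : K} (hu : u ^ 5 = 1) (x y : Ker) : scale u (x * y) = scale u x * scale u y := by
  have e9 : j u = u ^ 4 := by rw [j_apply, show 9 = 5 + 4 by norm_num, pow_add, hu, one_mul]
  ext <;> simp only [scale, mul_def, map_mul, map_pow, e9]
  · ring
  · ring
  · ring
  · ring
  · linear_combination -(u * j x.a * y.c) * hu
  · linear_combination -(u * x.c * y.b) * hu
  · linear_combination (u ^ 3 * x.c * j y.b) * (u ^ 10 + u ^ 5 + 1) * hu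
  · linear_combination (-(u ^ 2 * j x.a * y.q') - u ^ 2 * x.p * y.b +
      u ^ 2 * x.p' * j y.b * (u ^ 10 + u ^ 5 + 1)) * hu

lemma scale_scale (u v : K) (x : Ker) : scale u (scale v x) = scale (u * v) x := by
  ext <;> simp only [scale] <;> ring

lemma scale_one (x : Ker) : scale 1 x = x := by ext <;> simp [scale]

/-- The coordinate scaling by a fifth root of unity. -/
noncomputable def scaleAut (u : K) (hu : u ^ 5 = 1) : MulAut Ker where
  toFun := scale u
  invFun := scale (u ^ 4)
  left_inv x := by rw [scale_scale, ← pow_succ, hu, scale_one]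
  right_inv x := by rw [scale_scale, ← pow_succ', hu, scale_one]
  map_mul' := scale_mul hu

lemma eq_one_of_scale {u : K} (hu : u ^ 5 = 1) (hu1 : u ≠ 1) {x : Ker} (h : scale u x = x) :
    x = 1 := by
  have ho : orderOf u = 5 := orderOf_eq_prime (hp := ⟨Nat.prime_five⟩) hu hu1
  have key : ∀ (n : ℕ) (y : K), n ≠ 0 → n < 5 → u ^ n * y = y → y = 0 := by
    intro n y hn hn5 he
    by_contra hy
    exact pow_ne_one_of_lt_orderOf hn (ho ▸ hn5) (mul_right_cancel₀ hy (he.trans (one_mul y).symm))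
  rw [Ker.ext_iff] at h
  simp only [scale] at h
  obtain ⟨h1, h2, h3, h4, h5, h6, h7, h8⟩ := h
  have k1 : ∀ y : K, u * y = y → y = 0 := fun y hy => key 1 y one_ne_zero (by norm_num) (by rwa [pow_one])
  rw [one_def]
  ext
  exacts [k1 _ h1, key 2 _ two_ne_zero (by norm_num) h2, key 4 _ (by norm_num) (by norm_num) h3,
    key 3 _ (by norm_num) (by norm_num) h4, k1 _ h5, k1 _ h6,
    key 3 _ (by norm_num) (by norm_num) h7, key 2 _ two_ne_zero (by norm_num) h8]

/-- Coordinatewise cubing. -/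
noncomputable def cubeCoord (x : Ker) : Ker :=
  ⟨x.a ^ 3, x.c ^ 3, x.b ^ 3, x.p ^ 3, x.p' ^ 3, x.q ^ 3, x.q' ^ 3, x.w ^ 3⟩

lemma cubeCoord_mul (x y : Ker) : cubeCoord (x * y) = cubeCoord x * cubeCoord y := by
  ext <;> simp only [cubeCoord, mul_def, sub_pow_char, add_pow_char, mul_pow, map_pow]

lemma cubeCoord_iterate (n : ℕ) (x : Ker) :
    cubeCoord^[n] x = ⟨x.a ^ 3 ^ n, x.c ^ 3 ^ n, x.b ^ 3 ^ n, x.p ^ 3 ^ n, x.p' ^ 3 ^ n,
      x.q ^ 3 ^ n, x.q' ^ 3 ^ n, x.w ^ 3 ^ n⟩ := by
  induction n with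
  | zero => simp
  | succ n ih =>
    rw [Function.iterate_succ', Function.comp_apply, ih]
    ext <;> simp only [cubeCoord, ← pow_mul, ← pow_succ]

lemma cubeCoord_four (x : Ker) : cubeCoord^[4] x = x := by
  rw [cubeCoord_iterate]
  ext <;> exact pow_81 _

/-- The Frobenius automorphism. -/
noncomputable def frobAut : MulAut Ker where
  toFun := cubeCoord
  invFun := cubeCoord^[3]
  left_inv x := (Function.iterate_succ_apply cubeCoord 3 x).symm.trans (cubeCoord_four x)
  right_inv x := (Function.iterate_succ_apply' cubeCoord 3 x).symm.trans (cubeCoord_four x)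
  map_mul' := cubeCoord_mul

end CfsgLib.SolvablePSp
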